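import Groth.Agent.MultDesc.Chevalley
import Groth.Agent.AdicRingLib.RigTfae
import Groth.Agent.LimSch.CurveCriterion
import Groth.Agent.CAlgN2.CompleteLocal
import Groth.Agent.S4564

/-!
# A complete reduced local ring is separated by finite maps to discrete valuation rings
-/

set_option autoImplicit false
set_option linter.style.haveILetI false

universe u

open IsLocalRing

namespace Groth.Agent.DVRBranches

variable {A : Type u} [CommRing A] [IsNoetherianRing A] [IsLocalRing A] [IsReduced A]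

/-- One-dimensional primes separate the elements of a reduced local ring which is not a field. -/
theorem exists_dim_one_prime (hA : ¬ IsField A) {a : A} (ha : a ≠ 0) :
    ∃ q : Ideal A, q.IsPrime ∧ q ≠ maximalIdeal A ∧ a ∉ q ∧ Ring.KrullDimLE 1 (A ⧸ q) := by
  obtain ⟨f, hfm, hf0, hfa⟩ : ∃ f ∈ maximalIdeal A, f ≠ 0 ∧ ∀ q : Ideal A, q.IsPrime → f ∉ q → a ∉ q := by
    by_cases ham : a ∈ maximalIdeal A
    · exact ⟨a, ham, ha, fun q _ h => h⟩
    · obtain ⟨f, hfm, hf0⟩ := Submodule.exists_mem_ne_zero_of_ne_bot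
        (IsLocalRing.isField_iff_maximalIdeal_eq.not.1 hA)
      exact ⟨f, hfm, hf0, fun q hq _ haq => hq.ne_top (Ideal.eq_top_of_isUnit_mem _ haq
        (IsLocalRing.notMem_maximalIdeal.1 ham))⟩
  have hne : {p : Ideal A | p.IsPrime ∧ f ∉ p}.Nonempty := by
    by_contra h
    refine hf0 (IsReduced.eq_zero f (nilpotent_iff_mem_prime.2 fun p hp => ?_))
    by_contra hfp
    exact h ⟨p, hp, hfp⟩
  obtain ⟨q, ⟨hq, hfq⟩, hmax⟩ := wellFounded_gt.has_min _ hne
  haveI := hq
  refine ⟨q, hq, fun h => hfq (h ▸ hfm), hfa q hq hfq, ?_⟩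
  refine AdicRingLib.RigTfae.krullDimLE_one_of_forall_mem (a := Ideal.Quotient.mk q f)
    (fun h => hfq (Ideal.Quotient.eq_zero_iff_mem.1 h)) fun P hP hP0 => ?_
  by_contra hfP
  have hle : q ≤ P.comap (Ideal.Quotient.mk q) := fun x hx => by
    rw [Ideal.mem_comap, Ideal.Quotient.eq_zero_iff_mem.2 hx]
    exact P.zero_mem
  refine hmax (P.comap (Ideal.Quotient.mk q)) ⟨hP.comap _, hfP⟩ (lt_of_le_of_ne hle fun h => hP0 ?_)
  rw [← Ideal.map_comap_of_surjective (Ideal.Quotient.mk q) Ideal.Quotient.mk_surjective P, ← h,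
    Ideal.map_quotient_self]

variable [IsAdicComplete (maximalIdeal A) A]

/-- A one-dimensional prime is the kernel of a finite local map to a discrete valuation ring. -/
theorem exists_dvr (q : Ideal A) [q.IsPrime] (hq : q ≠ maximalIdeal A) [Ring.KrullDimLE 1 (A ⧸ q)] :
    ∃ (V : Type u) (_ : CommRing V) (_ : IsDomain V) (_ : IsDiscreteValuationRing V) (φ : A →+* V),
      IsLocalHom φ ∧ φ.Finite ∧ RingHom.ker φ = q := by
  haveI : IsLocalRing (A ⧸ q) := IsLocalRing.of_surjective' _ Ideal.Quotient.mk_surjective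
  haveI : IsLocalHom (Ideal.Quotient.mk q) := IsLocalHom.of_surjective _ Ideal.Quotient.mk_surjective
  have hm : (maximalIdeal A).map (Ideal.Quotient.mk q) = maximalIdeal (A ⧸ q) :=
    IsLocalRing.map_maximalIdeal_of_surjective _ Ideal.Quotient.mk_surjective
  haveI : IsAdicComplete (maximalIdeal (A ⧸ q)) (A ⧸ q) := hm ▸ AdicRingLib.RigTfae.isAdicComplete_quotient (maximalIdeal A) q
  let K := FractionRing (A ⧸ q)
  obtain ⟨hloc, -⟩ := S4564.result (A := A ⧸ q) (K' := K)
  haveI := hloc
  let V := integralClosure (A ⧸ q) K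
  haveI : Module.Finite (A ⧸ q) V := CAlgN2.isN2_of_complete_local (A ⧸ q) K inferInstance
  haveI : IsNoetherianRing V := isNoetherian_of_tower (A ⧸ q) inferInstance
  haveI : Algebra.IsIntegral (A ⧸ q) V := Algebra.IsIntegral.of_finite _ _
  haveI : IsIntegrallyClosed V := integralClosure.isIntegrallyClosedOfFiniteExtension K
  have hinj : Function.Injective (algebraMap (A ⧸ q) V) := by
    intro x y h
    exact IsFractionRing.injective (A ⧸ q) K (by
      rw [IsScalarTower.algebraMap_apply (A ⧸ q) V K, IsScalarTower.algebraMap_apply (A ⧸ q) V K, h])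
  haveI : FaithfulSMul (A ⧸ q) V := (faithfulSMul_iff_algebraMap_injective _ _).2 hinj
  have hdim : ringKrullDim V = 1 := by
    haveI : Ring.KrullDimLE 1 V := Ring.krullDimLE_one_iff_of_noZeroDivisors.2 fun P hP0 hP => by
      haveI := hP
      refine Ideal.isMaximal_of_isIntegral_of_isMaximal_comap (R := A ⧸ q) P ?_
      exact Ideal.IsPrime.isMaximal_of_ne_bot inferInstance fun h => hP0 (Ideal.eq_bot_of_comap_eq_bot h)
    refine le_antisymm (Ring.krullDimLE_iff.1 inferInstance) ?_
    by_contra hle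
    refine hq ?_
    haveI : Ring.KrullDimLE 0 V := Ring.krullDimLE_iff.2 (by
      have h1 := ringKrullDim_nonneg_of_nontrivial (R := V)
      cases hd : ringKrullDim V with
      | bot => exact bot_le
      | coe d =>
        rw [hd] at hle
        have hd' : ¬ (1 : ℕ∞) ≤ d := fun h => hle (WithBot.coe_le_coe.2 h)
        exact WithBot.coe_le_coe.2 (ENat.lt_one_iff_eq_zero.1 (not_le.1 hd')).le)
    exact eq_maximalIdeal (Ideal.Quotient.maximal_of_isField _
      (isField_of_isIntegral_of_isField hinj Ring.KrullDimLE.isField_of_isDomain))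
  haveI := LimSch.CurveTest.isDiscreteValuationRing_of_dim_one hdim
  haveI : IsLocalHom (algebraMap (A ⧸ q) V) := inferInstance
  refine ⟨V, inferInstance, inferInstance, inferInstance, (algebraMap (A ⧸ q) V).comp (Ideal.Quotient.mk q),
    RingHom.isLocalHom_comp _ _, ?_, ?_⟩
  · exact RingHom.Finite.comp (RingHom.finite_algebraMap.2 inferInstance)
      (RingHom.Finite.of_surjective _ Ideal.Quotient.mk_surjective)
  · rw [RingHom.ker_comp_of_injective _ hinj, Ideal.mk_ker]

/-- Finitely many one-dimensional primes meet in a given power of the maximal ideal. -/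
theorem exists_finset_inf_le (hA : ¬ IsField A) (n : ℕ) :
    ∃ T : Finset (Ideal A), (∀ q ∈ T, q.IsPrime ∧ q ≠ maximalIdeal A ∧ Ring.KrullDimLE 1 (A ⧸ q)) ∧
      T.inf id ≤ maximalIdeal A ^ n := by
  classical
  let Good : Ideal A → Prop := fun q => q.IsPrime ∧ q ≠ maximalIdeal A ∧ Ring.KrullDimLE 1 (A ⧸ q)
  let m := maximalIdeal A
  have hmin : ∀ N : ℕ, ∃ T : Finset (Ideal A), (∀ q ∈ T, Good q) ∧ ∀ T' : Finset (Ideal A), (∀ q ∈ T', Good q) →
      T ⊆ T' → T.inf id ≤ T'.inf id ⊔ m ^ N := by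
    intro N
    haveI : IsNoetherianRing (A ⧸ m ^ N) :=
      isNoetherianRing_of_surjective A _ (Ideal.Quotient.mk _) Ideal.Quotient.mk_surjective
    haveI : IsArtinianRing (A ⧸ m ^ N) := by
      rw [isArtinianRing_iff_krullDimLE_zero]
      refine Ring.KrullDimLE.mk₀ fun p hp => ?_
      haveI := hp
      have hc : p.comap (Ideal.Quotient.mk (m ^ N)) = m := by
        refine ((maximalIdeal.isMaximal A).eq_of_le (hp.comap _).ne_top ?_).symm
        refine (hp.comap _).le_of_pow_le (n := N) fun x hx => ?_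
        rw [Ideal.mem_comap, Ideal.Quotient.eq_zero_iff_mem.2 hx]
        exact p.zero_mem
      rw [← Ideal.map_comap_of_surjective (Ideal.Quotient.mk (m ^ N)) Ideal.Quotient.mk_surjective p, hc]
      exact Ideal.IsMaximal.map_of_surjective_of_ker_le Ideal.Quotient.mk_surjective (by
        rw [Ideal.mk_ker]
        refine fun x hx => hc.le ?_
        rw [Ideal.mem_comap, Ideal.Quotient.eq_zero_iff_mem.2 hx]
        exact p.zero_mem)
    obtain ⟨_, ⟨T, hT, rfl⟩, hTmin⟩ := IsArtinian.set_has_minimal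
      ((fun T : Finset (Ideal A) => (T.inf id).map (Ideal.Quotient.mk (m ^ N))) '' {T | ∀ q ∈ T, Good q})
      ⟨_, ∅, by simp, rfl⟩
    refine ⟨T, hT, fun T' hT' hsub x hx => ?_⟩
    have heq : (T'.inf id).map (Ideal.Quotient.mk (m ^ N)) = (T.inf id).map (Ideal.Quotient.mk (m ^ N)) :=
      (Ideal.map_mono (Finset.inf_mono hsub)).eq_of_not_lt (hTmin _ ⟨T', hT', rfl⟩)
    have hx' := Ideal.mem_map_of_mem (Ideal.Quotient.mk (m ^ N)) hx
    rw [← heq, ← Ideal.mem_comap, Ideal.comap_map_of_surjective _ Ideal.Quotient.mk_surjective,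
      ← RingHom.ker_eq_comap_bot, Ideal.mk_ker] at hx'
    exact hx'
  choose T hT hTmin using hmin
  let U : ℕ → Finset (Ideal A) := fun N => (Finset.range (N + 1)).biUnion T
  have hU : ∀ N, ∀ q ∈ U N, Good q := fun N q hq => by
    obtain ⟨k, -, hk⟩ := Finset.mem_biUnion.1 hq
    exact hT k q hk
  have hUmono : Monotone U := fun a b h => Finset.biUnion_subset_biUnion_of_subset_left _
    (Finset.range_mono (by omega))
  let F : ℕ → Submodule A A := fun N => (U N).inf id
  have hF : Antitone F := fun a b h => Finset.inf_mono (hUmono h)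
  have h0 : ∀ x, (∀ N, x ∈ F N) → x = 0 := by
    intro x hx
    by_contra hx0
    obtain ⟨q, hq, hqm, hxq, hdim⟩ := exists_dim_one_prime hA hx0
    haveI := hq
    refine hxq (Ideal.Quotient.eq_zero_iff_mem.1 ?_)
    haveI : Nontrivial (A ⧸ q) := inferInstance
    haveI : IsLocalRing (A ⧸ q) := IsLocalRing.of_surjective' _ Ideal.Quotient.mk_surjective
    refine IsHausdorff.haus (inferInstance : IsHausdorff (maximalIdeal (A ⧸ q)) (A ⧸ q)) _ fun N => ?_
    rw [SModEq.zero, smul_eq_mul, Ideal.mul_top, ← IsLocalRing.map_maximalIdeal_of_surjective _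
      (Ideal.Quotient.mk_surjective (I := q)), ← Ideal.map_pow]
    have hsub : T N ⊆ insert q (U N) := fun p hp => Finset.mem_insert_of_mem
      (Finset.mem_biUnion.2 ⟨N, Finset.mem_range.2 (Nat.lt_succ_self N), hp⟩)
    have hTU : T N ⊆ U N := fun p hp => Finset.mem_biUnion.2 ⟨N, Finset.mem_range.2 (Nat.lt_succ_self N), hp⟩
    have hxT : x ∈ (T N).inf id := Finset.inf_mono (f := id) hTU (hx N)
    obtain ⟨y, hy, z, hz, rfl⟩ := Submodule.mem_sup.1 (hTmin N (insert q (U N)) (fun p hp => by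
      rcases Finset.mem_insert.1 hp with rfl | hp
      · exact ⟨hq, hqm, hdim⟩
      · exact hU N p hp) hsub hxT)
    rw [Finset.inf_insert] at hy
    rw [map_add, Ideal.Quotient.eq_zero_iff_mem.2 (show y ∈ q from hy.1), zero_add]
    exact Ideal.mem_map_of_mem _ hz
  obtain ⟨N, hN⟩ := MultDesc.chevalley F hF h0 n
  rw [smul_eq_mul, Ideal.mul_top] at hN
  exact ⟨U N, hU N, hN⟩

end Groth.Agent.DVRBranches
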